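import Mathlib

/-!
# Quasi-homeomorphisms and equivalences of sheaf categories
-/

set_option autoImplicit false

universe u

open CategoryTheory TopologicalSpace Opposite Topology

namespace Groth.Agent.QHSheaf

/-- The two-element coefficient group. -/
abbrev A2 : Type u := ULift.{u} (ZMod 2)

/-- All functions on the trace of `S`. -/
abbrev Sec {X : TopCat.{u}} (S : Set X) (U : Opens X) : Type u :=
  {z : X // z ∈ S ∧ z ∈ U} → A2.{u}

variable {X : TopCat.{u}} {S : Set X}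

/-- Restriction. -/
def res {U V : Opens X} (h : U ≤ V) (s : Sec S V) : Sec S U := fun z => s ⟨z.1, z.2.1, h z.2.2⟩

theorem subsingleton_sec {U : Opens X} (h : ∀ z ∈ S, z ∉ U) : Subsingleton (Sec S U) :=
  ⟨fun _ _ => funext fun z => absurd z.2.2 (h z.1 z.2.1)⟩

theorem glue {ι : Type*} (U : ι → Opens X) (sf : ∀ i, Sec S (U i))
    (h : ∀ i j z (hS : z ∈ S) (hi : z ∈ U i) (hj : z ∈ U j), sf i ⟨z, hS, hi⟩ = sf j ⟨z, hS, hj⟩) :
    ∃! s : Sec S (iSup U), ∀ i, res (le_iSup U i) s = sf i := by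
  choose ix hix using fun z : {z : X // z ∈ S ∧ z ∈ iSup U} => Opens.mem_iSup.1 z.2.2
  refine ⟨fun z => sf (ix z) ⟨z.1, z.2.1, hix z⟩, fun i => funext fun z =>
    h _ _ z.1 z.2.1 (hix ⟨z.1, z.2.1, le_iSup U i z.2.2⟩) z.2.2, fun s hs => ?_⟩
  funext z
  exact congrFun (hs (ix z)) ⟨z.1, z.2.1, hix z⟩

open Classical in
/-- Extension by zero. -/
noncomputable def ext0 {U : Opens X} (s : Sec S U) (z : X) : A2.{u} :=
  if h : z ∈ S ∧ z ∈ U then s ⟨z, h⟩ else 0

/-- The limit along an ultrafilter. -/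
noncomputable def lim (F : Ultrafilter X) {U : Opens X} (s : Sec S U) : A2.{u} :=
  (F.map (ext0 s)).eq_pure_of_finite.choose

theorem lim_spec (F : Ultrafilter X) {U : Opens X} (s : Sec S U) :
    ∀ᶠ z in (F : Filter X), ext0 s z = lim F s := by
  have h := (F.map (ext0 s)).eq_pure_of_finite.choose_spec
  have : {lim F s} ∈ F.map (ext0 s) := by
    rw [h]; exact Ultrafilter.mem_pure.2 rfl
  exact this

theorem lim_unique (F : Ultrafilter X) {U : Opens X} (s : Sec S U) {a : A2.{u}}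
    (h : ∀ᶠ z in (F : Filter X), ext0 s z = a) : lim F s = a := by
  obtain ⟨z, hz, hz'⟩ := ((lim_spec F s).and h).exists
  exact hz.symm.trans hz'

theorem lim_res (F : Ultrafilter X) {U V : Opens X} (h : U ≤ V) (hU : (U : Set X) ∈ F) (s : Sec S V) :
    lim F (res h s) = lim F s := by
  refine lim_unique F _ ?_
  filter_upwards [lim_spec F s, hU] with z hz hzU
  rw [← hz]
  by_cases hS : z ∈ S
  · rw [ext0, ext0, dif_pos ⟨hS, hzU⟩, dif_pos ⟨hS, h hzU⟩]; rfl
  · rw [ext0, ext0, dif_neg (fun e => hS e.1), dif_neg (fun e => hS e.1)]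

theorem lim_add (F : Ultrafilter X) {U : Opens X} (s t : Sec S U) : lim F (s + t) = lim F s + lim F t := by
  refine lim_unique F _ ?_
  filter_upwards [lim_spec F s, lim_spec F t] with z hs ht
  rw [← hs, ← ht, ext0, ext0, ext0]
  by_cases h : z ∈ S ∧ z ∈ U
  · rw [dif_pos h, dif_pos h, dif_pos h]; rfl
  · rw [dif_neg h, dif_neg h, dif_neg h, add_zero]

theorem lim_zero (F : Ultrafilter X) {U : Opens X} : lim F (0 : Sec S U) = 0 :=
  lim_unique F _ (Filter.Eventually.of_forall fun z => by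
    rw [ext0]; split_ifs <;> rfl)

theorem lim_const (F : Ultrafilter X) {U : Opens X} (hS : S ∈ F) (hU : (U : Set X) ∈ F) (a : A2.{u}) :
    lim F (fun _ => a : Sec S U) = a := by
  refine lim_unique F _ ?_
  filter_upwards [hS, hU] with z h1 h2
  rw [ext0, dif_pos ⟨h1, h2⟩]

theorem exists_ne : ∃ a : A2.{u}, a ≠ 0 := ⟨⟨1⟩, fun e => by simpa using congrArg ULift.down e⟩

/-- An ultrafilter separating a point from the smallest preimage. -/
theorem exists_ultrafilter {X₀ X : TopCat.{u}} (f : X₀ ⟶ X) {W : Opens X₀} {x : X₀}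
    (h : ∀ V : Opens X, (Opens.map f).obj V ≤ W → x ∉ (Opens.map f).obj V) :
    ∃ F : Ultrafilter X₀, ((W : Set X₀)ᶜ ∈ F) ∧
      ∀ V : Opens X, x ∈ (Opens.map f).obj V → (((Opens.map f).obj V : Opens X₀) : Set X₀) ∈ F := by
  let l : Filter X₀ := Filter.comap f (𝓝 (f x)) ⊓ Filter.principal (W : Set X₀)ᶜ
  haveI : l.NeBot := by
    rw [Filter.inf_principal_neBot_iff]
    intro T hT
    obtain ⟨t, ht, htT⟩ := Filter.mem_comap.1 hT
    obtain ⟨V, hVt, hV, hxV⟩ := mem_nhds_iff.1 ht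
    by_contra hne
    refine h ⟨V, hV⟩ (fun z hz => ?_) hxV
    by_contra hzW
    exact hne ⟨z, htT (hVt hz), hzW⟩
  refine ⟨Ultrafilter.of l, ?_, fun V hV => ?_⟩
  · exact Ultrafilter.of_le l (Filter.mem_inf_of_right (Filter.mem_principal_self _))
  · exact Ultrafilter.of_le l (Filter.mem_inf_of_left (Filter.preimage_mem_comap (V.2.mem_nhds hV)))

/-- A bijection on opens makes the site map dense. -/
theorem isDenseSubsite {X₀ X : TopCat.{u}} (f : X₀ ⟶ X)
    (hb : Function.Bijective fun U : Opens X => (Opens.map f).obj U) :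
    (Opens.map f).IsDenseSubsite (Opens.grothendieckTopology X) (Opens.grothendieckTopology X₀) := by
  have hle : ∀ {U V : Opens X}, (Opens.map f).obj U ≤ (Opens.map f).obj V → U ≤ V := fun {U V} h => by
    have : (Opens.map f).obj (U ⊓ V) = (Opens.map f).obj U := le_antisymm
      (fun z hz => (show f z ∈ U ⊓ V from hz).1) (fun z hz => show f z ∈ U ⊓ V from ⟨hz, h hz⟩)
    exact inf_eq_left.1 (hb.1 this)
  haveI : (Opens.map f).Full := ⟨fun g => ⟨homOfLE (hle (leOfHom g)), Subsingleton.elim _ _⟩⟩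
  haveI : (Opens.map f).Faithful := ⟨fun _ => Subsingleton.elim _ _⟩
  haveI : (Opens.map f).EssSurj := ⟨fun W => by
    obtain ⟨U, hU⟩ := hb.2 W
    exact ⟨U, ⟨eqToIso hU⟩⟩⟩
  haveI : (Opens.map f).IsEquivalence := {}
  refine { isCoverDense' := inferInstance, functorPushforward_mem_iff := fun {U S} => ⟨fun h => ?_, fun h => ?_⟩ }
  · let W : Opens X := sSup {V | ∃ i : V ⟶ U, S i}
    have hWU : W ≤ U := sSup_le fun V ⟨i, _⟩ => leOfHom i
    have hW : (Opens.map f).obj U ≤ (Opens.map f).obj W := fun x hx => by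
      obtain ⟨V', g, ⟨V, i, j, hi, -⟩, hxV⟩ := h x hx
      exact Opens.mem_sSup.2 ⟨V, ⟨i, hi⟩, leOfHom j hxV⟩
    intro y hy
    obtain ⟨V, ⟨i, hi⟩, hyV⟩ := Opens.mem_sSup.1 (hle hW hy)
    exact ⟨V, i, hi, hyV⟩
  · intro x hx
    obtain ⟨V, i, hi, hxV⟩ := h (f x) hx
    exact ⟨(Opens.map f).obj V, (Opens.map f).map i, ⟨V, i, 𝟙 _, hi, (Category.id_comp _).symm⟩, hxV⟩

end Groth.Agent.QHSheaf
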