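import Groth.Agent.QHSheaf.Basic

/-!
# Test sheaves detecting quasi-homeomorphisms
-/

set_option autoImplicit false

universe u

open CategoryTheory TopologicalSpace Opposite Topology

namespace Groth.Agent.QHSheaf

variable {X : TopCat.{u}}

/-- The presheaf of sets of functions on `S`. -/
def preT (S : Set X) : TopCat.Presheaf (Type u) X where
  obj U := Sec S U.unop
  map h := TypeCat.ofHom fun s => res (leOfHom h.unop) s

/-- The sheaf of sets of functions on `S`. -/
def funT (S : Set X) : TopCat.Sheaf (Type u) X :=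
  ⟨preT S, TopCat.Presheaf.isSheaf_of_isSheafUniqueGluing_types _ fun ι U sf h =>
    glue U sf fun i j z hS hi hj => congrFun (h i j) ⟨z, hS, hi, hj⟩⟩

/-- The presheaf of groups of functions on `S`. -/
def preA (S : Set X) : TopCat.Presheaf AddCommGrpCat.{u} X where
  obj U := AddCommGrpCat.of (Sec S U.unop)
  map h := AddCommGrpCat.ofHom
    { toFun := fun s => res (leOfHom h.unop) s
      map_zero' := rfl
      map_add' := fun _ _ => rfl }

/-- The sheaf of groups of functions on `S`. -/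
def funA (S : Set X) : TopCat.Sheaf AddCommGrpCat.{u} X :=
  ⟨preA S, (TopCat.Presheaf.isSheaf_iff_isSheafUniqueGluing _).2 fun ι U sf h =>
    glue U sf fun i j z hS hi hj => congrFun (h i j) ⟨z, hS, hi, hj⟩⟩

variable {X₀ : TopCat.{u}} (f : X₀ ⟶ X)

theorem inj_of_type [(TopCat.Sheaf.pushforward (Type u) f).EssSurj] :
    Function.Injective fun U : Opens X => (Opens.map f).obj U := by
  suffices ∀ U V : Opens X, U ≤ V → (Opens.map f).obj U = (Opens.map f).obj V → V ≤ U by
    intro U V h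
    have h' : (Opens.map f).obj (U ⊓ V) = (Opens.map f).obj U := le_antisymm
      (fun z hz => (show f z ∈ U ⊓ V from hz).1)
      (fun z hz => show f z ∈ U ⊓ V from ⟨hz, (show (Opens.map f).obj U ≤ _ from h.le) hz⟩)
    exact le_antisymm (inf_eq_left.1 (le_antisymm inf_le_left (this _ _ inf_le_left h')))
      (inf_eq_right.1 (le_antisymm inf_le_right (this _ _ inf_le_right (h'.trans h))))
  intro U V hUV e y hyV
  by_contra hyU
  let P := funT ({y} : Set X)
  let e' := ((TopCat.Sheaf.forget _ _).mapIso ((TopCat.Sheaf.pushforward (Type u) f).objObjPreimageIso P))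
  haveI : IsIso ((Opens.map f).map (homOfLE hUV)) :=
    ⟨homOfLE e.ge, Subsingleton.elim _ _, Subsingleton.elim _ _⟩
  haveI : IsIso (P.obj.map (homOfLE hUV).op) :=
    (NatIso.isIso_map_iff e' (homOfLE hUV).op).1
      (inferInstanceAs (IsIso (((TopCat.Sheaf.pushforward (Type u) f).objPreimage P).obj.map
        ((Opens.map f).map (homOfLE hUV)).op)))
  have hb := (isIso_iff_bijective _).1 this
  haveI := subsingleton_sec (S := ({y} : Set X)) (U := U) (fun z hz => hz ▸ hyU)
  obtain ⟨a, ha⟩ := exists_ne.{u}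
  have := @hb.1 (fun _ => a : Sec ({y} : Set X) V) (0 : Sec ({y} : Set X) V)
    (Subsingleton.elim (α := Sec ({y} : Set X) U) _ _)
  exact ha (congrFun this ⟨y, rfl, hyV⟩)

theorem inj_of_ab [(TopCat.Sheaf.pushforward AddCommGrpCat.{u} f).EssSurj] :
    Function.Injective fun U : Opens X => (Opens.map f).obj U := by
  suffices ∀ U V : Opens X, U ≤ V → (Opens.map f).obj U = (Opens.map f).obj V → V ≤ U by
    intro U V h
    have h' : (Opens.map f).obj (U ⊓ V) = (Opens.map f).obj U := le_antisymm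
      (fun z hz => (show f z ∈ U ⊓ V from hz).1)
      (fun z hz => show f z ∈ U ⊓ V from ⟨hz, (show (Opens.map f).obj U ≤ _ from h.le) hz⟩)
    exact le_antisymm (inf_eq_left.1 (le_antisymm inf_le_left (this _ _ inf_le_left h')))
      (inf_eq_right.1 (le_antisymm inf_le_right (this _ _ inf_le_right (h'.trans h))))
  intro U V hUV e y hyV
  by_contra hyU
  let P := funA ({y} : Set X)
  let e' := ((TopCat.Sheaf.forget _ _).mapIso
    ((TopCat.Sheaf.pushforward AddCommGrpCat.{u} f).objObjPreimageIso P))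
  haveI : IsIso ((Opens.map f).map (homOfLE hUV)) :=
    ⟨homOfLE e.ge, Subsingleton.elim _ _, Subsingleton.elim _ _⟩
  haveI : IsIso (P.obj.map (homOfLE hUV).op) :=
    (NatIso.isIso_map_iff e' (homOfLE hUV).op).1
      (inferInstanceAs (IsIso (((TopCat.Sheaf.pushforward AddCommGrpCat.{u} f).objPreimage P).obj.map
        ((Opens.map f).map (homOfLE hUV)).op)))
  have hb := ConcreteCategory.bijective_of_isIso (P.obj.map (homOfLE hUV).op)
  haveI := subsingleton_sec (S := ({y} : Set X)) (U := U) (fun z hz => hz ▸ hyU)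
  obtain ⟨a, ha⟩ := exists_ne.{u}
  have := @hb.1 (fun _ => a : Sec ({y} : Set X) V) (0 : Sec ({y} : Set X) V)
    (Subsingleton.elim (α := Sec ({y} : Set X) U) _ _)
  exact ha (congrFun this ⟨y, rfl, hyV⟩)

theorem surj_of_type [(TopCat.Sheaf.pushforward (Type u) f).Full] :
    Function.Surjective fun U : Opens X => (Opens.map f).obj U := by
  intro W
  by_contra hW
  push_neg at hW
  let U₀ : Opens X := sSup {V | (Opens.map f).obj V ≤ W}
  have hU₀ : (Opens.map f).obj U₀ ≤ W := fun z hz => by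
    obtain ⟨V, hV, hzV⟩ := Opens.mem_sSup.1 hz
    exact hV hzV
  obtain ⟨x, hxW, hx⟩ : ∃ x, x ∈ W ∧ x ∉ (Opens.map f).obj U₀ := by
    by_contra hcon
    push_neg at hcon
    exact hW U₀ (le_antisymm hU₀ hcon)
  obtain ⟨F, hFW, hFV⟩ := exists_ultrafilter f (W := W) (x := x)
    (fun V hV hxV => hx (Opens.mem_sSup.2 ⟨V, hV, hxV⟩))
  let ψ : (TopCat.Sheaf.pushforward (Type u) f).obj (funT (W : Set X₀)ᶜ) ⟶
      (TopCat.Sheaf.pushforward (Type u) f).obj (funT ({x} : Set X₀)) :=
    ObjectProperty.homMk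
      { app := fun V => TypeCat.ofHom fun (s : Sec (W : Set X₀)ᶜ ((Opens.map f).obj V.unop)) =>
          (fun _ => lim F s : Sec ({x} : Set X₀) ((Opens.map f).obj V.unop))
        naturality := fun V V' h => by
          ext s
          funext p
          exact lim_res F (leOfHom ((Opens.map f).map h.unop)) (hFV V'.unop ((Set.mem_singleton_iff.1 p.2.1) ▸ p.2.2)) s }
  obtain ⟨φ, hφ⟩ := (TopCat.Sheaf.pushforward (Type u) f).map_surjective ψ
  obtain ⟨a, ha⟩ := exists_ne.{u}
  let s₁ : Sec (W : Set X₀)ᶜ ((Opens.map f).obj ⊤) := fun _ => a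
  let s₀ : Sec (W : Set X₀)ᶜ ((Opens.map f).obj ⊤) := 0
  have key : ∀ s, φ.hom.app (op ((Opens.map f).obj ⊤)) s =
      (fun _ => lim F s : Sec ({x} : Set X₀) ((Opens.map f).obj ⊤)) := fun s =>
    congrArg (fun η : (TopCat.Sheaf.pushforward (Type u) f).obj (funT (W : Set X₀)ᶜ) ⟶
      (TopCat.Sheaf.pushforward (Type u) f).obj (funT ({x} : Set X₀)) => η.hom.app (op ⊤) s) hφ
  haveI := subsingleton_sec (S := (W : Set X₀)ᶜ) (U := W) (fun z hz => hz)
  have hle : W ≤ (Opens.map f).obj ⊤ := fun z _ => Set.mem_univ (f z)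
  have e := congrArg (fun t => φ.hom.app (op W) t)
    (Subsingleton.elim (α := Sec (W : Set X₀)ᶜ W) (res hle s₁) (res hle s₀))
  have n₁ := ConcreteCategory.congr_hom (φ.hom.naturality (homOfLE hle).op) s₁
  have n₀ := ConcreteCategory.congr_hom (φ.hom.naturality (homOfLE hle).op) s₀
  have h := congrFun ((n₁.symm.trans e).trans n₀) ⟨x, rfl, hxW⟩
  have h' : lim F s₁ = lim F s₀ := by
    refine Eq.trans ?_ (h.trans ?_)
    · exact (congrFun (key s₁) ⟨x, rfl, Set.mem_univ (f x)⟩).symm
    · exact congrFun (key s₀) ⟨x, rfl, Set.mem_univ (f x)⟩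
  rw [lim_const F hFW (Filter.univ_mem' fun z => Set.mem_univ (f z)) a, lim_zero] at h'
  exact ha h'

theorem surj_of_ab [(TopCat.Sheaf.pushforward AddCommGrpCat.{u} f).Full] :
    Function.Surjective fun U : Opens X => (Opens.map f).obj U := by
  intro W
  by_contra hW
  push_neg at hW
  let U₀ : Opens X := sSup {V | (Opens.map f).obj V ≤ W}
  have hU₀ : (Opens.map f).obj U₀ ≤ W := fun z hz => by
    obtain ⟨V, hV, hzV⟩ := Opens.mem_sSup.1 hz
    exact hV hzV
  obtain ⟨x, hxW, hx⟩ : ∃ x, x ∈ W ∧ x ∉ (Opens.map f).obj U₀ := by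
    by_contra hcon
    push_neg at hcon
    exact hW U₀ (le_antisymm hU₀ hcon)
  obtain ⟨F, hFW, hFV⟩ := exists_ultrafilter f (W := W) (x := x)
    (fun V hV hxV => hx (Opens.mem_sSup.2 ⟨V, hV, hxV⟩))
  let ψ : (TopCat.Sheaf.pushforward AddCommGrpCat.{u} f).obj (funA (W : Set X₀)ᶜ) ⟶
      (TopCat.Sheaf.pushforward AddCommGrpCat.{u} f).obj (funA ({x} : Set X₀)) :=
    ObjectProperty.homMk
      { app := fun V => AddCommGrpCat.ofHom
          { toFun := fun (s : Sec (W : Set X₀)ᶜ ((Opens.map f).obj V.unop)) =>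
              (fun _ => lim F s : Sec ({x} : Set X₀) ((Opens.map f).obj V.unop))
            map_zero' := funext fun _ => lim_zero F
            map_add' := fun s t => funext fun _ => lim_add F s t }
        naturality := fun V V' h => by
          ext s
          funext p
          exact lim_res F (leOfHom ((Opens.map f).map h.unop)) (hFV V'.unop ((Set.mem_singleton_iff.1 p.2.1) ▸ p.2.2)) s }
  obtain ⟨φ, hφ⟩ := (TopCat.Sheaf.pushforward AddCommGrpCat.{u} f).map_surjective ψ
  obtain ⟨a, ha⟩ := exists_ne.{u}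
  let s₁ : Sec (W : Set X₀)ᶜ ((Opens.map f).obj ⊤) := fun _ => a
  let s₀ : Sec (W : Set X₀)ᶜ ((Opens.map f).obj ⊤) := 0
  have key : ∀ s, φ.hom.app (op ((Opens.map f).obj ⊤)) s =
      (fun _ => lim F s : Sec ({x} : Set X₀) ((Opens.map f).obj ⊤)) := fun s =>
    congrArg (fun η : (TopCat.Sheaf.pushforward AddCommGrpCat.{u} f).obj (funA (W : Set X₀)ᶜ) ⟶
      (TopCat.Sheaf.pushforward AddCommGrpCat.{u} f).obj (funA ({x} : Set X₀)) => η.hom.app (op ⊤) s) hφ
  haveI := subsingleton_sec (S := (W : Set X₀)ᶜ) (U := W) (fun z hz => hz)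
  have hle : W ≤ (Opens.map f).obj ⊤ := fun z _ => Set.mem_univ (f z)
  have e := congrArg (fun t => φ.hom.app (op W) t)
    (Subsingleton.elim (α := Sec (W : Set X₀)ᶜ W) (res hle s₁) (res hle s₀))
  have n₁ := ConcreteCategory.congr_hom (φ.hom.naturality (homOfLE hle).op) s₁
  have n₀ := ConcreteCategory.congr_hom (φ.hom.naturality (homOfLE hle).op) s₀
  have h := congrFun ((n₁.symm.trans e).trans n₀) ⟨x, rfl, hxW⟩
  have h' : lim F s₁ = lim F s₀ := by
    refine Eq.trans ?_ (h.trans ?_)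
    · exact (congrFun (key s₁) ⟨x, rfl, Set.mem_univ (f x)⟩).symm
    · exact congrFun (key s₀) ⟨x, rfl, Set.mem_univ (f x)⟩
  rw [lim_const F hFW (Filter.univ_mem' fun z => Set.mem_univ (f z)) a, lim_zero] at h'
  exact ha h'

end Groth.Agent.QHSheaf
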